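import Groth.Agent.Lib.AlgSpace.LocP
import Groth.Agent.Lib.AlgSpace.Points
import Groth.Agent.Lib.AlgSpDescent.Instances
import Groth.Agent.S7190
import Groth.Prelude.Def_W4stk3sptopologiesPh

/-!
# fppf coverings of algebraic spaces are ph coverings
-/

universe u

set_option backward.isDefEq.respectTransparency.types false

open CategoryTheory CategoryTheory.Limits AlgebraicGeometry Opposite

namespace Groth.Agent.PhCover15

open AlgSp Groth.Agent.AlgSpace Groth.Agent.AlgSpDecent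

variable {S : Scheme.{u}}

theorem isPhCover_of_isFppfCover (X : Space S) {ι : Type u} (Xi : ι → Space S) (g : ∀ i, Xi i ⟶ X)
    (h : IsFppfCover (fun i => (Xi i).obj) (fun i => (g i).hom)) :
    IsPhCover (fun i => (Xi i).obj) (fun i => (g i).hom) := by
  obtain ⟨hP, hsurj⟩ := h
  refine ⟨fun i => locP_mono (fun _ _ f (_ : LocallyOfFinitePresentation f) =>
    (inferInstance : LocallyOfFiniteType f)) (hP i).2, fun Z hZ φ => ?_⟩
  have key : ∀ z : ↥Z.left, ∃ (i : ι) (W : Over S) (p : W ⟶ Z) (l : (yon S).obj W ⟶ (Xi i).obj),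
      Flat p.left ∧ LocallyOfFinitePresentation p.left ∧ z ∈ Set.range p.left ∧
        l ≫ (g i).hom = (yon S).map p ≫ φ := by
    intro z
    obtain ⟨i, y, hy⟩ := hsurj (Points.ofPt φ z)
    have sq := IsPullback.of_hasPullback (g i).hom φ
    have hPa : IsAlgSpace (pullback (g i).hom φ) :=
      isAlgSpace_pullback X.property (Xi i).property (IsAlgSpace.yon_obj Z) sq
    obtain ⟨v, -, hv⟩ := exists_point_lift sq y (Points.ofScheme Z z)
      (hy.trans (Points.ofPt_eq_map_ofScheme φ z))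
    obtain ⟨W, w, hwe, hws⟩ := hPa.atlas
    obtain ⟨x, rfl⟩ := surjective_ofPt hws v
    obtain ⟨p, hp⟩ := (yon S).map_surjective (w ≫ pullback.snd (g i).hom φ)
    have hid : RepWith @Etale (𝟙 ((yon S).obj Z)) := by
      rw [← CategoryTheory.Functor.map_id]
      exact (repWith_yon_map_iff _ _).2 (inferInstanceAs (Etale (𝟙 Z.left)))
    have e : w ≫ pullback.snd (g i).hom φ = (yon S).map p ≫ 𝟙 _ := by rw [Category.comp_id, hp]
    refine ⟨i, W, p, w ≫ pullback.fst (g i).hom φ, ?_, ?_, ⟨x, ?_⟩, ?_⟩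
    · exact locP_of_isPullback (P := @Flat) (Xi i).property X.property (IsAlgSpace.yon_obj Z) sq (hP i).1
        w (𝟙 _) p hwe hid e
    · exact locP_of_isPullback (P := @LocallyOfFinitePresentation) (Xi i).property X.property
        (IsAlgSpace.yon_obj Z) sq (hP i).2 w (𝟙 _) p hwe hid e
    · refine (Points.schemeEquiv Z).injective ?_
      rw [Points.map_ofPt] at hv
      exact (ofPt_map_eq p x).symm.trans ((congrArg (fun a => Points.ofPt a x) hp).trans hv)
    · rw [Category.assoc, sq.w, ← Category.assoc]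
      exact congrArg (· ≫ φ) hp.symm
  choose i W p l hfl hfp hz hl using key
  obtain ⟨-, hF⟩ := Groth.Agent.S7190.result (T := Z.left)
    ⟨↥Z.left, fun z => (W z).left, fun z => (p z).left⟩ hfl hfp (fun z => ⟨z, (hz z).choose, (hz z).choose_spec⟩)
  obtain ⟨F, hF₁, hF₂⟩ := hF ⟨⊤, isAffineOpen_top Z.left⟩
  refine ⟨⟨F.I₀, F.X, fun j => F.f j ≫ (⊤ : Z.left.Opens).ι⟩, ⟨hZ, hF₁.finite_index, hF₁.isAffine_obj, ?_⟩, fun j => ?_⟩
  · obtain ⟨U, f, e, h1, h2, h3, h4, h5⟩ := hF₁.exists_proper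
    have : IsIso (⊤ : Z.left.Opens).ι := inferInstanceAs (IsIso Z.left.topIso.hom)
    exact ⟨U, f ≫ (⊤ : Z.left.Opens).ι, e, inferInstance, inferInstance, h3,
      fun j => by rw [← Category.assoc, h4], h5⟩
  · obtain ⟨z, m, hm⟩ := hF₂ j
    refine ⟨i z, (yon S).map (Over.homMk m ?_ :
      Over.mk ((F.f j ≫ (⊤ : Z.left.Opens).ι) ≫ Z.hom) ⟶ W z) ≫ l z, ?_⟩
    · change m ≫ (W z).hom = (F.f j ≫ (⊤ : Z.left.Opens).ι) ≫ Z.hom
      rw [← Over.w (p z), ← Category.assoc]
      exact congrArg (· ≫ Z.hom) hm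
    · refine (Category.assoc _ _ _).trans ((congrArg (_ ≫ ·) (hl z)).trans ?_)
      refine (Category.assoc _ _ _).symm.trans (congrArg (· ≫ φ) ?_)
      exact ((yon S).map_comp _ _).symm.trans (congrArg (yon S).map (Over.OverMorphism.ext hm))

end Groth.Agent.PhCover15
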